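import Groth.Agent.DiffOp16.Basic
import Mathlib

/-! Differential operators and formally étale extensions of the ring. -/

set_option autoImplicit false
set_option linter.unusedSectionVars false

universe u

open scoped TensorProduct
open Diff16 DiffOp16Lib

namespace Diff16EtaleLib

section Step

variable {R S S' : Type u} [CommRing R] [CommRing S] [CommRing S'] [Algebra R S] [Algebra R S'] [Algebra S S']
  [IsScalarTower R S S']
variable {M N : Type u} [AddCommGroup M] [Module R M] [Module S' M] [IsScalarTower R S' M]
  [AddCommGroup N] [Module R N] [Module S N] [Module S' N] [IsScalarTower R S N] [IsScalarTower R S' N]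
  [IsScalarTower S S' N]

/-- If the double commutators of an operator lie in a submodule, as well as the commutators with the base
ring, then all commutators do, for a formally unramified extension. -/
theorem commutator_mem_of_formallyUnramified [Algebra.FormallyUnramified S S']
    (W : Submodule S' (M →ₗ[R] N)) (D : M →ₗ[R] N)
    (hS : ∀ s : S, commutator R S' M N D (algebraMap S S' s) ∈ W)
    (h : ∀ b c : S', commutator R S' M N (commutator R S' M N D b) c ∈ W) (b : S') :
    commutator R S' M N D b ∈ W := by
  let δ : S' → (M →ₗ[R] N) ⧸ W := fun b => W.mkQ (commutator R S' M N D b)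
  have hleib : ∀ b c : S', δ (b * c) = b • δ c + c • δ b := fun b c => by
    have h1 : commutator R S' M N D (b * c) =
        b • commutator R S' M N D c + c • commutator R S' M N D b +
          commutator R S' M N (commutator R S' M N D b) c := by
      ext m
      simp only [LinearMap.add_apply, LinearMap.smul_apply, commutator_apply, mul_smul, smul_sub]
      abel
    change W.mkQ _ = b • W.mkQ _ + c • W.mkQ _
    rw [h1, map_add, map_add, map_smul, map_smul]
    simp [h b c]
  have hbase : ∀ s : S, δ (algebraMap S S' s) = 0 := fun s => (Submodule.Quotient.mk_eq_zero W).2 (hS s)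
  let d : Derivation S S' ((M →ₗ[R] N) ⧸ W) := Derivation.mk'
    { toFun := δ
      map_add' := fun x y => by
        change W.mkQ _ = W.mkQ _ + W.mkQ _
        rw [commutator_add_right, map_add]
      map_smul' := fun s x => by
        rw [RingHom.id_apply, Algebra.smul_def, hleib, hbase, smul_zero, add_zero, algebraMap_smul] }
    (fun x y => hleib x y)
  have hd : d b = 0 := by
    rw [← Derivation.liftKaehlerDifferential_comp_D d b,
      Subsingleton.elim (KaehlerDifferential.D S S' b) 0, map_zero]
  exact (Submodule.Quotient.mk_eq_zero W).1 hd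

/-- The operators of order at most `n`. -/
def ops (R S' M N : Type u) [CommRing R] [CommRing S'] [Algebra R S'] [AddCommGroup M] [Module R M] [Module S' M]
    [IsScalarTower R S' M] [AddCommGroup N] [Module R N] [Module S' N] [IsScalarTower R S' N] (n : ℕ) :
    Submodule S' (M →ₗ[R] N) where
  carrier := {D | IsDiffOpLE R S' M N n D}
  add_mem' := isDiffOpLE_add
  zero_mem' := isDiffOpLE_zero_map n
  smul_mem' c _ := isDiffOpLE_smul c

/-- An operator of order at most `n + 1` commuting with the base ring has order at most `n`. -/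
theorem isDiffOpLE_of_commutes_base [Algebra.FormallyUnramified S S'] (n : ℕ) (D : M →ₗ[R] N)
    (hD : IsDiffOpLE R S' M N (n + 1) D) (hS : ∀ s : S, commutator R S' M N D (algebraMap S S' s) = 0) :
    IsDiffOpLE R S' M N n D := by
  cases n with
  | zero =>
    intro b m
    have h := commutator_mem_of_formallyUnramified (S := S) ⊥ D (fun s => by simp [hS s])
      (fun b c => (Submodule.mem_bot _).2 (commutator_eq_zero (hD b) c)) b
    rw [Submodule.mem_bot] at h
    exact sub_eq_zero.1 (LinearMap.congr_fun h m)
  | succ n =>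
    exact fun b => commutator_mem_of_formallyUnramified (S := S) (ops R S' M N n) D
      (fun s => by rw [hS s]; exact Submodule.zero_mem _) (fun b c => hD b c) b

end Step

section Unique

variable {R S S' : Type u} [CommRing R] [CommRing S] [CommRing S'] [Algebra R S] [Algebra R S'] [Algebra S S']
  [IsScalarTower R S S']
variable {M N : Type u} [AddCommGroup M] [Module S M] [Module R M] [IsScalarTower R S M]
  [AddCommGroup N] [Module R N] [Module S N] [Module S' N] [IsScalarTower R S N] [IsScalarTower R S' N]
  [IsScalarTower S S' N]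

/-- An operator on a base change is determined by its values on the original module. -/
theorem eq_zero_of_one_tmul [Algebra.FormallyUnramified S S'] : ∀ (n : ℕ) (D : S' ⊗[S] M →ₗ[R] N),
    IsDiffOpLE R S' (S' ⊗[S] M) N n D → (∀ m : M, D (1 ⊗ₜ[S] m) = 0) → D = 0
  | 0, D, hD, h0 => by
    ext x
    induction x using TensorProduct.induction_on with
    | zero => simp
    | tmul b m =>
      have h : b ⊗ₜ[S] m = b • ((1 : S') ⊗ₜ[S] m) := by rw [TensorProduct.smul_tmul', smul_eq_mul, mul_one]
      rw [h, hD b, h0, smul_zero, LinearMap.zero_apply]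
    | add x y hx hy => rw [map_add, hx, hy, map_add]
  | n + 1, D, hD, h0 => by
    refine eq_zero_of_one_tmul n D (isDiffOpLE_of_commutes_base (S := S) n D hD fun s => ?_) h0
    refine eq_zero_of_one_tmul n _ (hD _) fun m => ?_
    rw [commutator_apply, h0, smul_zero, sub_zero, algebraMap_smul, ← TensorProduct.tmul_smul, h0]

end Unique

section Exist

variable {R S S' : Type u} [CommRing R] [CommRing S] [CommRing S'] [Algebra R S] [Algebra R S'] [Algebra S S']
  [IsScalarTower R S S']
variable {M N : Type u} [AddCommGroup M] [Module S M] [Module R M] [IsScalarTower R S M]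
  [AddCommGroup N] [Module R N] [Module S N] [Module S' N] [IsScalarTower R S N] [IsScalarTower R S' N]
  [IsScalarTower S S' N]

/-- `y ⊗ x ↦ x • D (y • m)`. -/
noncomputable def ev (D : M →ₗ[R] N) (m : M) : S ⊗[R] S' →ₗ[R] N :=
  TensorProduct.lift <| LinearMap.mk₂ R (fun (y : S) (x : S') => x • D (y • m))
    (fun y y' x => by rw [add_smul, map_add, smul_add])
    (fun a y x => by rw [smul_assoc, map_smul, smul_comm])
    (fun y x x' => add_smul _ _ _) (fun a y x => smul_assoc _ _ _)

theorem ev_tmul (D : M →ₗ[R] N) (m : M) (y : S) (x : S') : ev D m (y ⊗ₜ x) = x • D (y • m) := rfl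

theorem ev_right (D : M →ₗ[R] N) (m : M) (c : S') (z : S ⊗[R] S') :
    ev D m (((1 : S) ⊗ₜ[R] c) * z) = c • ev D m z := by
  induction z using TensorProduct.induction_on with
  | zero => simp
  | add a b ha hb => rw [mul_add, map_add, map_add, ha, hb, smul_add]
  | tmul y x => rw [Algebra.TensorProduct.tmul_mul_tmul, ev_tmul, ev_tmul, one_mul, mul_smul]

theorem ev_left (D : M →ₗ[R] N) (m : M) (b : S) (z : S ⊗[R] S') :
    ev D m ((b ⊗ₜ[R] (1 : S')) * z) = ev D (b • m) z := by
  induction z using TensorProduct.induction_on with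
  | zero => simp
  | add a a' ha hb => rw [mul_add, map_add, map_add, ha, hb]
  | tmul y x => rw [Algebra.TensorProduct.tmul_mul_tmul, ev_tmul, ev_tmul, one_mul, mul_comm b y, mul_smul]

theorem ev_add (D : M →ₗ[R] N) (m m' : M) (z : S ⊗[R] S') : ev D (m + m') z = ev D m z + ev D m' z := by
  induction z using TensorProduct.induction_on with
  | zero => simp
  | add a a' ha hb => simp only [map_add, ha, hb]; abel
  | tmul y x => simp only [ev_tmul, smul_add, map_add]

variable (R S S') in
/-- The multiplication map. -/
noncomputable def mu : S ⊗[R] S' →ₐ[S] S' :=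
  Algebra.TensorProduct.lift (Algebra.ofId S S') (AlgHom.id R S') (fun _ _ => mul_comm _ _)

theorem mu_tmul (y : S) (x : S') : mu R S S' (y ⊗ₜ x) = algebraMap S S' y * x :=
  Algebra.TensorProduct.lift_tmul _ _ _ _ _

/-- The generators of the kernel of `mu`. -/
noncomputable def delta (R : Type u) {S : Type u} (S' : Type u) [CommRing R] [CommRing S] [CommRing S']
    [Algebra R S] [Algebra R S'] [Algebra S S'] (b : S) : S ⊗[R] S' :=
  b ⊗ₜ[R] (1 : S') - (1 : S) ⊗ₜ[R] algebraMap S S' b

theorem ker_mu_le : RingHom.ker (mu R S S') ≤ Ideal.span (Set.range (delta R S' (S := S))) := by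
  intro z hz
  have h : ∀ w : S ⊗[R] S', w - (1 : S) ⊗ₜ[R] mu R S S' w ∈ Ideal.span (Set.range (delta R S' (S := S))) := by
    intro w
    induction w using TensorProduct.induction_on with
    | zero => simp
    | add a b ha hb =>
      have := Ideal.add_mem _ ha hb
      convert this using 1
      rw [map_add, TensorProduct.tmul_add]; abel
    | tmul y x =>
      have : y ⊗ₜ[R] x - (1 : S) ⊗ₜ[R] mu R S S' (y ⊗ₜ x) = ((1 : S) ⊗ₜ[R] x) * delta R S' y := by
        rw [delta, mu_tmul, mul_sub, Algebra.TensorProduct.tmul_mul_tmul, Algebra.TensorProduct.tmul_mul_tmul,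
          one_mul, mul_one, one_mul, mul_comm x]
      rw [this]
      exact Ideal.mul_mem_left _ _ (Ideal.subset_span ⟨y, rfl⟩)
  have h1 := h z
  rwa [RingHom.mem_ker.1 hz, TensorProduct.tmul_zero, sub_zero] at h1

theorem ev_delta_mul (D : M →ₗ[R] N) (m : M) (b : S) (z : S ⊗[R] S') :
    ev D m (delta R S' b * z) = ev (commutator R S M N D b) m z := by
  induction z using TensorProduct.induction_on with
  | zero => simp
  | add a a' ha hb => simp only [mul_add, map_add, ha, hb]
  | tmul y x =>
    rw [delta, sub_mul, map_sub, ev_left, ev_right, ev_tmul, ev_tmul, ev_tmul, commutator_apply, smul_sub,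
      algebraMap_smul, smul_comm y b m, smul_comm b x]

theorem ev_pow_ker : ∀ (n : ℕ) (D : M →ₗ[R] N), IsDiffOpLE R S M N n D → ∀ (m : M) (w : S ⊗[R] S'),
    w ∈ RingHom.ker (mu R S S') ^ (n + 1) → ev D m w = 0 := by
  have step : ∀ (D : M →ₗ[R] N) (I : Ideal (S ⊗[R] S')),
      (∀ (b : S) (m : M), ∀ w ∈ I, ev (commutator R S M N D b) m w = 0) →
      ∀ (m : M), ∀ x ∈ RingHom.ker (mu R S S') * I, ev D m x = 0 := by
    intro D I h m x hx
    induction hx using Submodule.mul_induction_on' with
    | mem_mul_mem r hr w hw =>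
      have hr' := ker_mu_le hr
      clear hr
      revert w
      induction hr' using Submodule.span_induction with
      | mem x hx =>
        obtain ⟨b, rfl⟩ := hx
        intro w hw
        rw [ev_delta_mul]; exact h b m w hw
      | zero => intro w _; simp
      | add x y _ _ hx hy => intro w hw; rw [add_mul, map_add, hx w hw, hy w hw, add_zero]
      | smul c x _ hx =>
        intro w hw
        rw [smul_eq_mul, mul_comm c x, mul_assoc]
        exact hx _ (I.mul_mem_left c hw)
    | add x _ y _ hx hy => rw [map_add, hx, hy, add_zero]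
  intro n
  induction n with
  | zero =>
    intro D hD m w hw
    rw [zero_add, pow_one, ← Ideal.mul_top (RingHom.ker (mu R S S'))] at hw
    refine step D ⊤ (fun b m z hz => ?_) m w hw
    rw [commutator_eq_zero hD b]
    clear hz
    induction z using TensorProduct.induction_on with
    | zero => simp
    | add a a' ha hb => simp only [map_add, ha, hb, add_zero]
    | tmul y x => simp [ev_tmul]
  | succ n ih =>
    intro D hD m w hw
    rw [pow_succ'] at hw
    exact step D _ (fun b m z hz => ih _ (hD b) m z hz) m w hw

/-- An operator extends along a formally étale extension of rings. -/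
theorem exists_extension [Algebra.FormallySmooth S S'] (k : ℕ) (D : M →ₗ[R] N)
    (hD : IsDiffOpLE R S M N k D) : ∃ D' : S' ⊗[S] M →ₗ[R] N,
      IsDiffOpLE R S' (S' ⊗[S] M) N k D' ∧ ∀ m : M, D' (1 ⊗ₜ[S] m) = D m := by
  classical
  set K := RingHom.ker (mu R S S') with hK
  let q : S ⊗[R] S' →ₐ[S] (S ⊗[R] S') ⧸ K ^ (k + 1) := Ideal.Quotient.mkₐ S _
  have hle : K ^ (k + 1) ≤ K := Ideal.pow_le_self k.succ_ne_zero
  let μb : (S ⊗[R] S') ⧸ K ^ (k + 1) →ₐ[S] S' := Ideal.Quotient.liftₐ _ (mu R S S') fun a ha => hle ha
  have hμb : ∀ z, μb (q z) = mu R S S' z := fun z => rfl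
  have hsurj : Function.Surjective μb := fun x => ⟨q ((1 : S) ⊗ₜ x), by rw [hμb, mu_tmul, map_one, one_mul]⟩
  have hnil : IsNilpotent (RingHom.ker (μb : (S ⊗[R] S') ⧸ K ^ (k + 1) →+* S')) := by
    refine ⟨k + 1, ?_⟩
    have hk : RingHom.ker (μb : (S ⊗[R] S') ⧸ K ^ (k + 1) →+* S') = K.map (Ideal.Quotient.mk (K ^ (k + 1))) := by
      refine le_antisymm (fun z hz => ?_) (Ideal.map_le_iff_le_comap.2 fun z hz => hz)
      obtain ⟨w, rfl⟩ := Ideal.Quotient.mk_surjective z
      exact Ideal.mem_map_of_mem _ hz
    rw [hk, ← Ideal.map_pow, Ideal.map_quotient_self, Ideal.zero_eq_bot]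
  let g : S' →ₐ[S] (S ⊗[R] S') ⧸ K ^ (k + 1) :=
    Algebra.FormallySmooth.liftOfSurjective (AlgHom.id S S') μb hsurj hnil
  have hg : ∀ x, μb (g x) = x := fun x => Algebra.FormallySmooth.liftOfSurjective_apply _ μb hsurj hnil x
  let r : S' → S ⊗[R] S' := fun x => Function.surjInv Ideal.Quotient.mk_surjective (g x)
  have hr : ∀ x, q (r x) = g x := fun x => Function.surjInv_eq Ideal.Quotient.mk_surjective (g x)
  have hev : ∀ (m : M) (z z' : S ⊗[R] S'), q z = q z' → ev D m z = ev D m z' := fun m z z' h => by
    rw [← sub_eq_zero, ← map_sub]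
    exact ev_pow_ker k D hD m _ (Ideal.Quotient.eq.1 h)
  have hadd : ∀ x y, q (r (x + y)) = q (r x + r y) := fun x y => by rw [map_add q, hr, hr, hr, map_add]
  let F : S ⊗[R] S' → (S' ⊗[S] M →+ N) := fun l => TensorProduct.liftAddHom
    (AddMonoidHom.mk' (fun x => AddMonoidHom.mk' (fun m => ev D m (l * r x)) fun m m' => ev_add D m m' _)
      fun x y => by
        ext m
        simp only [AddMonoidHom.mk'_apply, AddMonoidHom.add_apply]
        rw [← map_add (ev D m)]
        exact hev m _ _ (by rw [map_mul, hadd, ← map_mul, mul_add]))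
    fun s x m => by
      simp only [AddMonoidHom.mk'_apply]
      rw [← ev_left D m s]
      refine hev m _ _ ?_
      rw [map_mul, map_mul, map_mul, hr, hr, map_smul]
      have : q (s ⊗ₜ[R] (1 : S')) = algebraMap S _ s := q.commutes s
      rw [this, Algebra.smul_def]
      ring
  have hF : ∀ l x m, F l (x ⊗ₜ[S] m) = ev D m (l * r x) := fun l x m => rfl
  let G : S ⊗[R] S' → (S' ⊗[S] M →ₗ[R] N) := fun l =>
    { toFun := F l
      map_add' := (F l).map_add
      map_smul' := fun a z => by
        induction z using TensorProduct.induction_on with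
        | zero => simp
        | add u v hu hv => rw [smul_add, map_add, map_add, hu, hv, smul_add]
        | tmul x m =>
          rw [RingHom.id_apply, TensorProduct.smul_tmul', hF, hF, ← map_smul]
          refine hev m _ _ ?_
          have h1 : a • x = algebraMap R S a • x := (algebraMap_smul S a x).symm
          rw [h1, map_mul, hr, map_smul g, ← hr x, ← map_smul q, ← map_mul, algebraMap_smul, mul_smul_comm] }
  have hG : ∀ l x m, G l (x ⊗ₜ[S] m) = ev D m (l * r x) := fun l x m => rfl
  have hcomm : ∀ (l : S ⊗[R] S') (c : S'),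
      commutator R S' (S' ⊗[S] M) N (G l) c = G (l * (r c - (1 : S) ⊗ₜ[R] c)) := by
    intro l c
    ext z
    induction z using TensorProduct.induction_on with
    | zero => simp
    | add u v hu hv => rw [map_add, map_add, hu, hv]
    | tmul x m =>
      rw [commutator_apply, TensorProduct.smul_tmul', hG, hG, hG, smul_eq_mul, mul_sub, sub_mul, map_sub,
        ← ev_right D m c, mul_assoc l ((1 : S) ⊗ₜ[R] c), mul_left_comm l]
      congr 1
      refine hev m _ _ ?_
      rw [map_mul, map_mul, map_mul, hr, hr, hr, map_mul g, mul_assoc]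
  have horder : ∀ (i : ℕ) (l : S ⊗[R] S'), (∀ z ∈ K ^ (i + 1), q (l * z) = 0) →
      IsDiffOpLE R S' (S' ⊗[S] M) N i (G l) := by
    have hδ : ∀ c, r c - (1 : S) ⊗ₜ[R] c ∈ K := fun c => by
      rw [hK, RingHom.mem_ker, map_sub, sub_eq_zero, mu_tmul, map_one, one_mul, ← hμb, hr, hg]
    intro i
    induction i with
    | zero =>
      intro l hl c z
      have h0 : commutator R S' (S' ⊗[S] M) N (G l) c = 0 := by
        rw [hcomm]
        ext z
        induction z using TensorProduct.induction_on with
        | zero => simp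
        | add u v hu hv => rw [map_add, hu, hv, map_add]
        | tmul x m =>
          rw [hG, LinearMap.zero_apply, ← map_zero (ev (S := S) (S' := S') D m)]
          refine hev m _ _ ?_
          rw [map_mul, hl _ (by rw [zero_add, pow_one]; exact hδ c), zero_mul, map_zero]
      exact sub_eq_zero.1 (LinearMap.congr_fun h0 z)
    | succ i ih =>
      intro l hl c
      rw [hcomm]
      refine ih _ fun z hz => ?_
      rw [mul_assoc]
      exact hl _ (by rw [pow_succ' _ (i + 1)]; exact Ideal.mul_mem_mul (hδ c) hz)
  refine ⟨G 1, horder k 1 fun z hz => ?_, fun m => ?_⟩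
  · rw [one_mul]
    exact Ideal.Quotient.eq_zero_iff_mem.2 hz
  · rw [hG, one_mul, hev m (r 1) 1 (by rw [hr, map_one, map_one]), Algebra.TensorProduct.one_def, ev_tmul,
      one_smul, one_smul]

end Exist

end Diff16EtaleLib
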